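import Groth.Agent.H14.FppfDesc.Ring
import Mathlib.AlgebraicGeometry.Morphisms.Flat
import Mathlib.AlgebraicGeometry.Morphisms.FinitePresentation
import Mathlib.AlgebraicGeometry.Morphisms.FiniteType
import Mathlib.AlgebraicGeometry.Limits
import Mathlib.AlgebraicGeometry.Morphisms.UniversallyOpen
import Mathlib.RingTheory.RingHom.FaithfullyFlat
import Groth.Agent.Lib.SmoothDesc.Scheme

/-!
# Finiteness conditions descend along fppf maps of the source
-/

set_option autoImplicit false
set_option backward.isDefEq.respectTransparency false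
set_option linter.style.haveILetI false

universe u

open CategoryTheory CategoryTheory.Limits AlgebraicGeometry

namespace Groth.Agent.H14.FppfDesc.Scheme

theorem exists_affine_cover {X' X : Scheme.{u}} (e : X' ⟶ X) [Surjective e] [Flat e]
    [LocallyOfFinitePresentation e] (V : X.affineOpens) :
    ∃ (T : Scheme.{u}) (t : T ⟶ (V : X.Opens)) (g : T ⟶ X') (_ : IsAffine T) (_ : Flat t)
      (_ : Surjective t) (_ : LocallyOfFinitePresentation t) (_ : LocallyOfFinitePresentation g),
      t ≫ (V : X.Opens).ι = g ≫ e := by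
  let e' := e ∣_ (V : X.Opens)
  have : Surjective e' := IsZariskiLocalAtTarget.restrict ‹Surjective e› _
  have : Flat e' := IsZariskiLocalAtTarget.restrict ‹Flat e› _
  have : LocallyOfFinitePresentation e' :=
    IsZariskiLocalAtTarget.restrict ‹LocallyOfFinitePresentation e› _
  have : UniversallyOpen e' := inferInstance
  have hopen : IsOpenMap e' := e'.isOpenMap
  let W := (e ⁻¹ᵁ (V : X.Opens) : Scheme.{u})
  have hV : IsCompact (Set.univ : Set ↥((V : X.Opens) : Scheme.{u})) := by
    have : IsAffine (V : X.Opens) := V.2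
    exact isCompact_univ
  obtain ⟨s, hs⟩ := hV.elim_finite_subcover (fun w : W.affineOpens ↦ e' '' (w : W.Opens))
    (fun w ↦ hopen _ w.1.2) (by
      intro v _
      obtain ⟨x, rfl⟩ := e'.surjective v
      obtain ⟨_, ⟨w, hw, rfl⟩, hx, -⟩ :=
        W.isBasis_affineOpens.exists_subset_of_mem_open (Set.mem_univ x) isOpen_univ
      exact Set.mem_iUnion.mpr ⟨⟨w, hw⟩, x, hx, rfl⟩)
  let T₀ : Scheme.{u} := ∐ fun w : s ↦ ((w.1 : W.Opens) : Scheme.{u})
  let t₀ : T₀ ⟶ W := Sigma.desc fun w ↦ (w.1 : W.Opens).ι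
  have hw : ∀ w : s, IsAffine ((w.1 : W.Opens) : Scheme.{u}) := fun w ↦ w.1.2
  have hfl : Flat t₀ := IsZariskiLocalAtSource.sigmaDesc (P := @Flat) fun w ↦ inferInstance
  have hfp : LocallyOfFinitePresentation t₀ :=
    IsZariskiLocalAtSource.sigmaDesc (P := @LocallyOfFinitePresentation) fun w ↦ inferInstance
  refine ⟨T₀, t₀ ≫ e', t₀ ≫ (e ⁻¹ᵁ (V : X.Opens)).ι, inferInstance, inferInstance, ⟨fun v ↦ ?_⟩,
    inferInstance, inferInstance, by simp [e']⟩
  obtain ⟨w, hws, x, hx, rfl⟩ := Set.mem_iUnion₂.mp (hs (Set.mem_univ v))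
  refine ⟨Sigma.ι (fun w : s ↦ ((w.1 : W.Opens) : Scheme.{u})) ⟨w, hws⟩ ⟨x, hx⟩, ?_⟩
  have key : Sigma.ι (fun w : s ↦ ((w.1 : W.Opens) : Scheme.{u})) ⟨w, hws⟩ ≫ t₀ ≫ e' =
      (w : W.Opens).ι ≫ e' := by simp [t₀]
  exact congr($key ⟨x, hx⟩)

theorem of_comp_fppf (P : MorphismProperty Scheme.{u})
    {Q : ∀ {R S : Type u} [CommRing R] [CommRing S], (R →+* S) → Prop}
    [HasRingHomProperty P Q] [P.IsStableUnderComposition] [P.IsStableUnderBaseChange]
    (hsm : ∀ {A B : Scheme.{u}} (g : A ⟶ B), LocallyOfFinitePresentation g → P g)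
    (hQ : ∀ ⦃R S T : Type u⦄ [CommRing R] [CommRing S] [CommRing T] (f : R →+* S) (g : S →+* T),
      g.FaithfullyFlat → g.FinitePresentation → Q (g.comp f) → Q f)
    {X' X Y : Scheme.{u}} (e : X' ⟶ X) (f : X ⟶ Y) [Surjective e] [Flat e]
    [LocallyOfFinitePresentation e] (h : P (e ≫ f)) : P f := by
  rw [HasRingHomProperty.iff_appLE (P := P)]
  intro U V i
  obtain ⟨T, t, g, _, _, _, _, _, htg⟩ := exists_affine_cover e V
  have : IsAffine (V : X.Opens) := V.2
  have : IsAffine (U : Y.Opens) := U.2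
  have hT' : P (t ≫ f.resLE U V i) := by
    have sq : IsPullback (𝟙 T) (t ≫ f.resLE U V i) ((t ≫ f.resLE U V i) ≫ (U : Y.Opens).ι)
        (U : Y.Opens).ι :=
      ⟨⟨by simp⟩, ⟨PullbackCone.IsLimit.mk _ (fun s ↦ s.fst) (fun s ↦ by simp)
        (fun s ↦ by
          refine (cancel_mono (U : Y.Opens).ι).mp ?_
          simpa only [Category.assoc] using s.condition)
        (fun s m h₁ _ ↦ by simpa using h₁)⟩⟩
    refine MorphismProperty.of_isPullback sq ?_
    rw [Category.assoc, Scheme.Hom.resLE_comp_ι, ← Category.assoc, htg, Category.assoc]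
    exact MorphismProperty.comp_mem P _ _ (hsm g inferInstance) h
  have hq : P (f.resLE U V i) := by
    have hlfp : LocallyOfFinitePresentation t := inferInstance
    rw [HasRingHomProperty.iff_of_isAffine (P := P)] at hT' ⊢
    rw [HasRingHomProperty.iff_of_isAffine (P := @LocallyOfFinitePresentation)] at hlfp
    rw [Scheme.Hom.comp_appTop, CommRingCat.hom_comp] at hT'
    exact hQ _ _ ((Flat.flat_and_surjective_iff_faithfullyFlat_of_isAffine (f := t)).mp
      ⟨inferInstance, inferInstance⟩) hlfp hT'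
  have hiso := (HasRingHomProperty.isLocal_ringHomProperty P).respectsIso
  rw [HasRingHomProperty.iff_of_isAffine (P := P), Scheme.Hom.appTop,
    Scheme.Hom.resLE_app_top, CommRingCat.hom_comp, hiso.cancel_left_isIso, CommRingCat.hom_comp,
    hiso.cancel_right_isIso] at hq
  exact hq

theorem locallyOfFiniteType_of_comp {X' X Y : Scheme.{u}} (e : X' ⟶ X) (f : X ⟶ Y) [Surjective e]
    [Flat e] [LocallyOfFinitePresentation e] (h : LocallyOfFiniteType (e ≫ f)) :
    LocallyOfFiniteType f :=
  of_comp_fppf @LocallyOfFiniteType (fun g hg => have := hg; inferInstance)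
    (fun R S T _ _ _ f g hg hg' h => by
      algebraize [f, g, g.comp f]
      exact Ring.finiteType_of_comp R S T) e f h

theorem locallyOfFinitePresentation_of_comp {X' X Y : Scheme.{u}} (e : X' ⟶ X) (f : X ⟶ Y)
    [Surjective e] [Flat e] [LocallyOfFinitePresentation e]
    (h : LocallyOfFinitePresentation (e ≫ f)) : LocallyOfFinitePresentation f :=
  of_comp_fppf @LocallyOfFinitePresentation (fun g hg => hg)
    (fun R S T _ _ _ f g hg hg' h => by
      algebraize [f, g, g.comp f]
      exact Ring.finitePresentation_of_comp R S T) e f h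

/-- Smoothness descends along fppf maps of the source. -/
theorem smooth_of_comp {X' X Y : Scheme.{u}} (e : X' ⟶ X) (f : X ⟶ Y) [Surjective e] [Flat e]
    [LocallyOfFinitePresentation e] (h : Smooth (e ≫ f)) : Smooth f := by
  have : LocallyOfFinitePresentation f := locallyOfFinitePresentation_of_comp e f inferInstance
  exact Groth.Agent.Lib.SmoothDesc.Scheme.smooth_of_comp e f

end Groth.Agent.H14.FppfDesc.Scheme
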