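import Groth.Agent.Lib.SourceDescent.Ring
import Groth.Agent.H19.FlatLocus.Approx
import Mathlib.RingTheory.Extension.Presentation.Core

/-!
Descent of finiteness conditions along faithfully flat finitely presented ring maps on the source.
-/

set_option autoImplicit false

universe u

open TensorProduct
open Groth.Agent.Lib.SourceDescent.Ring (surjective_of_tensor_map_surjective)

namespace Groth.Agent.H14.FppfDesc.Ring

open Groth.Agent.H19.FlatLocus
open Groth.Agent.Lib.Flat55.Relations

section Model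

variable {R : Type u} [CommRing R] {σ κ : Type} [Finite σ] [Fintype κ]

/-- A module of relations in one slot as a quotient ring. -/
noncomputable def quotEquiv (r : κ → MvPolynomial σ R) :
    Quot (fun v (_ : Unit) => r v) ≃ₗ[MvPolynomial σ R]
      MvPolynomial σ R ⧸ Ideal.span (Set.range r) :=
  Submodule.Quotient.equiv _ _ (LinearEquiv.funUnique Unit (MvPolynomial σ R) (MvPolynomial σ R)) (by
    refine (Submodule.map_span _ _).trans (congrArg (Submodule.span _) ?_)
    rw [← Set.range_comp]
    rfl)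

theorem flat_quotient_iff (r : κ → MvPolynomial σ R) :
    (∀ q : PrimeSpectrum (MvPolynomial σ R),
        Module.Flat R (QuotAt (fun v (_ : Unit) => r v) q.asIdeal)) ↔
      Module.Flat R (MvPolynomial σ R ⧸ Ideal.span (Set.range r)) := by
  let e := (quotEquiv r).restrictScalars R
  constructor
  · intro h
    have : Module.Flat R (Quot (fun v (_ : Unit) => r v)) := by
      rw [Module.Flat.iff_lTensor_injective']
      intro J
      rw [injective_iff_map_eq_zero]
      intro y hy
      suffices H : (⊤ : Ideal (MvPolynomial σ R)) ≤ LinearMap.ker (LinearMap.toSpanSingleton (MvPolynomial σ R) _ y) by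
        simpa using H (x := 1) trivial
      by_contra hne
      obtain ⟨q, hq, hle⟩ := Ideal.exists_le_maximal _ (fun e => hne e.ge)
      have := hq.isPrime
      obtain ⟨s, hs, hsy⟩ := (flat_iff_killed (R := R) q.primeCompl
        (LocalizedModule.mkLinearMap q.primeCompl (Quot (fun v (_ : Unit) => r v)))).1
        (h ⟨q, this⟩) J y hy
      exact hs (hle (by simpa using hsy))
    exact Module.Flat.of_linearEquiv e.symm
  · intro h q
    have : Module.Flat R (Quot (fun v (_ : Unit) => r v)) := Module.Flat.of_linearEquiv e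
    rw [flat_iff_killed (R := R) q.asIdeal.primeCompl
      (LocalizedModule.mkLinearMap q.asIdeal.primeCompl (Quot (fun v (_ : Unit) => r v)))]
    intro J y hy
    refine ⟨1, Submonoid.one_mem _, ?_⟩
    rw [one_smul]
    exact (Module.Flat.iff_lTensor_injective'.1 this J) (hy.trans (map_zero _).symm)

end Model

/-- A flat finitely presented algebra has a flat finitely presented model over a finitely generated
subring. -/
theorem exists_flat_model (B C : Type u) [CommRing B] [CommRing C] [Algebra B C] [Module.Flat B C]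
    [Algebra.FinitePresentation B C] :
    ∃ (s : Finset B) (C₁ : Type u) (_ : CommRing C₁) (_ : Algebra (Algebra.adjoin ℤ (s : Set B)) C₁),
      Module.Flat (Algebra.adjoin ℤ (s : Set B)) C₁ ∧
        Algebra.FinitePresentation (Algebra.adjoin ℤ (s : Set B)) C₁ ∧
        Nonempty (C ≃ₐ[B] B ⊗[Algebra.adjoin ℤ (s : Set B)] C₁) := by
  let P := Algebra.Presentation.ofFinitePresentation B C
  have hC : Module.Flat B (MvPolynomial (Fin (Algebra.Presentation.ofFinitePresentationVars B C)) B ⧸
      Ideal.span (Set.range P.relation)) :=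
    Module.Flat.of_linearEquiv
      ((Ideal.quotientEquivAlgOfEq B P.span_range_relation_eq_ker).trans
        (P.quotientEquiv.restrictScalars B)).toLinearEquiv
  obtain ⟨s, g₁, hg₁, hfl⟩ :=
    exists_flat_level (fun v (_ : Unit) => P.relation v) ((flat_quotient_iff P.relation).2 hC)
  let R₁ := Algebra.adjoin ℤ (s : Set B)
  have : P.HasCoeffs R₁ := ⟨fun x hx => by
    obtain ⟨v, hv⟩ := Set.mem_iUnion.1 hx
    have e : MvPolynomial.map R₁.val.toRingHom (g₁ v ()) = P.relation v := congrFun (hg₁ v) ()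
    exact MvPolynomial.mem_range_map_iff_coeffs_subset.1 ⟨g₁ v (), e⟩ hv⟩
  have hg : g₁ = fun v (_ : Unit) => P.relationOfHasCoeffs R₁ v := funext fun v => funext fun _ =>
    MvPolynomial.map_injective (algebraMap R₁ B) Subtype.val_injective
      ((congrFun (hg₁ v) ()).trans (P.map_relationOfHasCoeffs R₁ v).symm)
  refine ⟨s, P.ModelOfHasCoeffs R₁, inferInstance, inferInstance, ?_, inferInstance,
    ⟨(P.tensorModelOfHasCoeffsEquiv R₁).symm⟩⟩
  exact (flat_quotient_iff (P.relationOfHasCoeffs R₁)).1 fun q =>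
    hg ▸ hfl q.asIdeal

variable (A B C : Type u) [CommRing A] [CommRing B] [CommRing C]
  [Algebra A B] [Algebra B C] [Algebra A C] [IsScalarTower A B C]

theorem finiteType_of_comp [Module.FaithfullyFlat B C] [Algebra.FinitePresentation B C]
    [Algebra.FiniteType A C] : Algebra.FiniteType A B := by
  classical
  obtain ⟨s₁, B₀, _, _, _, _, ⟨e⟩⟩ := exists_flat_model B C
  let A₀ := Algebra.adjoin ℤ (s₁ : Set B)
  obtain ⟨s, hs⟩ := Algebra.FiniteType.out (R := A) (A := C)
  choose k t m h using fun x : s ↦ TensorProduct.exists_sum_tmul_eq (e x.1)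
  have hopen : IsOpen (Set.range (PrimeSpectrum.comap (algebraMap A₀ B₀))) :=
    (PrimeSpectrum.isOpenMap_comap_of_hasGoingDown_of_finitePresentation (R := A₀) (S := B₀)).isOpen_range
  obtain ⟨K, hK⟩ := (PrimeSpectrum.isClosed_iff_zeroLocus_ideal _).mp hopen.isClosed_compl
  have hKtop : K.map (algebraMap A₀ B) = ⊤ := by
    rw [← PrimeSpectrum.zeroLocus_empty_iff_eq_top]
    refine Set.eq_empty_of_forall_notMem fun b hb ↦ ?_
    obtain ⟨c, rfl⟩ := PrimeSpectrum.comap_surjective_of_faithfullyFlat (A := B) (B := C) b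
    have hb' : PrimeSpectrum.comap (algebraMap A₀ B) (PrimeSpectrum.comap (algebraMap B C) c) ∈
        PrimeSpectrum.zeroLocus (K : Set A₀) :=
      fun x hx ↦ hb (Ideal.mem_map_of_mem _ hx)
    rw [← hK] at hb'
    refine hb' ⟨PrimeSpectrum.comap ((e.symm : B ⊗[A₀] B₀ →+* C).comp
      Algebra.TensorProduct.includeRight.toRingHom) c, ?_⟩
    rw [← PrimeSpectrum.comap_comp_apply, ← PrimeSpectrum.comap_comp_apply]
    congr 1
    ext x
    simp only [RingHom.coe_comp, Function.comp_apply, AlgHom.toRingHom_eq_coe, RingHom.coe_coe,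
      Algebra.TensorProduct.includeRight_apply]
    rw [Algebra.algebraMap_eq_smul_one (R := A₀) (A := B₀), ← TensorProduct.smul_tmul,
      ← Algebra.algebraMap_eq_smul_one, ← e.symm.commutes]
    rfl
  obtain ⟨N, cf, g, hcf⟩ := Submodule.mem_span_set'.mp
    ((Ideal.eq_top_iff_one _).mp hKtop :
      (1 : B) ∈ Submodule.span B ((algebraMap A₀ B) '' (K : Set A₀)))
  let W : Finset B := (Finset.univ.biUnion fun x : s ↦ Finset.univ.image (t x)) ∪
    Finset.univ.image cf
  let A₁ : Subalgebra A B := Algebra.adjoin A ((s₁ ∪ W : Finset B) : Set B)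
  suffices hA₁ : (A₁ : Set B) = Set.univ by
    constructor
    have : A₁ = ⊤ := SetLike.coe_injective (by simpa using hA₁)
    rw [← this]
    exact ⟨_, rfl⟩
  have hW : ∀ w ∈ W, w ∈ A₁ := fun w hw ↦
    Algebra.subset_adjoin (Finset.mem_coe.2 (Finset.mem_union_right _ hw))
  have hle : A₀ ≤ A₁.restrictScalars ℤ := Algebra.adjoin_le fun x hx ↦
    Algebra.subset_adjoin (Finset.mem_coe.2 (Finset.mem_union_left _ hx))
  let j : A₀ →+* A₁ := (Subalgebra.inclusion hle).toRingHom
  algebraize [j]
  have : IsScalarTower A₀ A₁ B := .of_algebraMap_eq fun _ ↦ rfl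
  let ι : A₁ →ₐ[A₀] B := IsScalarTower.toAlgHom A₀ A₁ B
  -- `A₁ ⊗ B₀` is faithfully flat over `A₁`
  have : Module.FaithfullyFlat A₁ (A₁ ⊗[A₀] B₀) := by
    refine .of_comap_surjective fun p ↦ ?_
    let p₀ := PrimeSpectrum.comap (algebraMap A₀ A₁) p
    have hp₀ : p₀ ∈ Set.range (PrimeSpectrum.comap (algebraMap A₀ B₀)) := by
      by_contra hcon
      have hp' : p₀ ∈ PrimeSpectrum.zeroLocus (K : Set A₀) := by rw [← hK]; exact hcon
      refine p.2.ne_top ((Ideal.eq_top_iff_one _).mpr ?_)
      have hg : ∀ l : Fin N, ∃ x ∈ K, algebraMap A₀ B x = g l := fun l ↦ (g l).2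
      choose x hx hgx using hg
      have : (1 : A₁) = ∑ l, (⟨cf l, hW _ (by simp [W])⟩ : A₁) * algebraMap A₀ A₁ (x l) := by
        apply Subtype.ext
        refine Eq.trans hcf.symm ?_
        rw [AddSubmonoidClass.coe_finsetSum]
        refine Finset.sum_congr rfl fun l _ ↦ ?_
        rw [smul_eq_mul, ← hgx]
        rfl
      rw [this]
      exact Submodule.sum_mem _ fun l _ ↦ Ideal.mul_mem_left _ _ (hp' (hx l))
    rw [← Set.mem_range, ← PrimeSpectrum.nontrivial_iff_mem_rangeComap]
    rw [← PrimeSpectrum.nontrivial_iff_mem_rangeComap] at hp₀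
    have e1 := AlgebraTensorModule.cancelBaseChange A₀ A₁ A₁ p.asIdeal.ResidueField B₀
    suffices Nontrivial (p.asIdeal.ResidueField ⊗[A₀] B₀) from e1.toEquiv.nontrivial
    let φ : p₀.asIdeal.ResidueField →ₐ[A₀] p.asIdeal.ResidueField :=
      Ideal.ResidueField.mapₐ p₀.asIdeal p.asIdeal (Algebra.ofId A₀ A₁) rfl
    algebraize [φ.toRingHom]
    have : IsScalarTower A₀ p₀.asIdeal.ResidueField p.asIdeal.ResidueField :=
      .of_algebraMap_eq fun x ↦ (φ.commutes x).symm
    exact (AlgebraTensorModule.cancelBaseChange A₀ p₀.asIdeal.ResidueField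
      p₀.asIdeal.ResidueField p.asIdeal.ResidueField B₀).symm.toEquiv.nontrivial
  -- `A₁ ⊗ B₀ → B ⊗ B₀` is surjective
  let F : A₁ ⊗[A₀] B₀ →ₐ[A₀] B ⊗[A₀] B₀ := Algebra.TensorProduct.map ι (AlgHom.id _ _)
  have hF : Function.Surjective F := by
    suffices H : ∀ c : C, e c ∈ F.range by
      intro y
      obtain ⟨c, rfl⟩ := e.surjective y
      exact H c
    intro c
    have hc : c ∈ Algebra.adjoin A (s : Set C) := by rw [hs]; trivial
    induction hc using Algebra.adjoin_induction with
    | mem x hx =>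
      rw [h ⟨x, hx⟩]
      refine Subalgebra.sum_mem _ fun j _ ↦ ?_
      exact ⟨(⟨t ⟨x, hx⟩ j, hW _ (Finset.mem_union_left _ (Finset.mem_biUnion.mpr
        ⟨⟨x, hx⟩, Finset.mem_univ _, Finset.mem_image_of_mem _ (Finset.mem_univ j)⟩))⟩ : A₁) ⊗ₜ
        m ⟨x, hx⟩ j, rfl⟩
    | algebraMap r =>
      rw [IsScalarTower.algebraMap_apply A B C, e.commutes]
      exact ⟨(algebraMap A A₁ r) ⊗ₜ 1, rfl⟩
    | add x y _ _ hx hy => rw [map_add]; exact add_mem hx hy
    | mul x y _ _ hx hy => rw [map_mul]; exact mul_mem hx hy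
  have hsurj := surjective_of_tensor_map_surjective A₀ A₁ B B₀ hF
  exact Set.eq_univ_of_forall fun b ↦ by obtain ⟨⟨a, ha⟩, rfl⟩ := hsurj b; exact ha


theorem finitePresentation_of_comp_of_finiteType [Module.FaithfullyFlat B C] [Algebra.FinitePresentation B C]
    [Algebra.FiniteType A B] [Algebra.FinitePresentation A C] :
    Algebra.FinitePresentation A B := by
  classical
  obtain ⟨s₁, C₁, _, _, hfl₁, hfp₁, ⟨e₁⟩⟩ := exists_flat_model B C
  obtain ⟨n, f₀, hf₀⟩ := Algebra.FiniteType.iff_quotient_mvPolynomial''.mp ‹Algebra.FiniteType A B›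
  let P₀ := MvPolynomial (Fin n) A
  choose ℓ hℓ using fun x : s₁ ↦ hf₀ x.1
  let R₁ := Algebra.adjoin ℤ (s₁ : Set B)
  obtain ⟨P, _, _, f, hf, hPfp, χ, hχ⟩ : ∃ (P : Type u) (_ : CommRing P) (_ : Algebra A P)
      (f : P →ₐ[A] B), Function.Surjective f ∧ Algebra.FinitePresentation A P ∧
        ∃ χ : R₁ →+* P, ∀ r, f (χ r) = (r : B) := by
    let φ : MvPolynomial s₁ ℤ →+* R₁ :=
      (MvPolynomial.aeval fun x : s₁ ↦ (⟨x.1, Algebra.subset_adjoin x.2⟩ : R₁)).toRingHom
    have hφ : Function.Surjective φ := by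
      rintro ⟨r, hr⟩
      induction hr using Algebra.adjoin_induction with
      | mem x hx => exact ⟨MvPolynomial.X ⟨x, hx⟩, Subtype.ext (by simp [φ])⟩
      | algebraMap r => exact ⟨MvPolynomial.C r, Subtype.ext (by simp [φ])⟩
      | add x y _ _ hx hy =>
        obtain ⟨p, hp⟩ := hx; obtain ⟨q, hq⟩ := hy
        exact ⟨p + q, by rw [map_add, hp, hq]; rfl⟩
      | mul x y _ _ hx hy =>
        obtain ⟨p, hp⟩ := hx; obtain ⟨q, hq⟩ := hy
        exact ⟨p * q, by rw [map_mul, hp, hq]; rfl⟩
    let ψ : MvPolynomial s₁ ℤ →+* P₀ := (MvPolynomial.aeval ℓ).toRingHom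
    have hψ : f₀.toRingHom.comp ψ = R₁.val.toRingHom.comp φ :=
      MvPolynomial.ringHom_ext (fun r ↦ by simp [ψ, φ]) fun x ↦ by simp [ψ, φ, hℓ]
    let J₀ : Ideal P₀ := (RingHom.ker φ).map ψ
    have hJ₀ : J₀.FG := Ideal.FG.map (IsNoetherian.noetherian _) ψ
    have hJ₀f : ∀ x ∈ J₀, f₀ x = 0 := by
      change J₀ ≤ RingHom.ker f₀.toRingHom
      rw [Ideal.map_le_iff_le_comap]
      intro x hx
      rw [Ideal.mem_comap, RingHom.mem_ker]
      change (f₀.toRingHom.comp ψ) x = 0
      rw [hψ, RingHom.comp_apply, RingHom.mem_ker.1 hx, map_zero]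
    have hPfp : Algebra.FinitePresentation A (P₀ ⧸ J₀) := .quotient hJ₀
    let f : P₀ ⧸ J₀ →ₐ[A] B := Ideal.Quotient.liftₐ J₀ f₀ hJ₀f
    have hf : Function.Surjective f := fun b ↦ by
      obtain ⟨x, rfl⟩ := hf₀ b
      exact ⟨Ideal.Quotient.mk J₀ x, rfl⟩
    let χ : R₁ →+* P₀ ⧸ J₀ := RingHom.liftOfSurjective φ hφ ⟨(Ideal.Quotient.mk J₀).comp ψ, fun x hx ↦ by
      rw [RingHom.mem_ker, RingHom.comp_apply, Ideal.Quotient.eq_zero_iff_mem]
      exact Ideal.mem_map_of_mem _ hx⟩
    have hχ : ∀ r, f (χ r) = (r : B) := fun r ↦ by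
      obtain ⟨p, rfl⟩ := hφ r
      change f ((χ.comp φ) p) = _
      rw [RingHom.liftOfSurjective_comp]
      exact congr($hψ p)
    exact ⟨P₀ ⧸ J₀, inferInstance, inferInstance, f, hf, hPfp, χ, hχ⟩
  algebraize [χ]
  let fR : P →ₐ[R₁] B := { f.toRingHom with commutes' := hχ }
  let Q := P ⊗[R₁] C₁
  let F : Q →ₐ[R₁] B ⊗[R₁] C₁ := Algebra.TensorProduct.map fR (AlgHom.id R₁ C₁)
  algebraize [f.toRingHom, (algebraMap B C).comp f.toRingHom]
  let π : Q →ₐ[P] C :=
    { (e₁.symm.toRingEquiv.toRingHom).comp F.toRingHom with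
      commutes' := fun p ↦ by
        change e₁.symm (fR p ⊗ₜ[R₁] (1 : C₁)) = algebraMap B C (f p)
        exact e₁.symm.commutes (f p) }
  have hπ : Function.Surjective π :=
    e₁.symm.surjective.comp (TensorProduct.map_surjective hf Function.surjective_id)
  have hker : RingHom.ker π = (RingHom.ker f.toRingHom).map (algebraMap P Q) := by
    have h0 : RingHom.ker π = RingHom.ker F := by
      ext x
      simp only [RingHom.mem_ker]
      exact ⟨fun h ↦ e₁.symm.injective (h.trans (map_zero e₁.symm).symm),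
        fun h ↦ (congrArg e₁.symm h).trans (map_zero _)⟩
    rw [h0]
    refine (Algebra.TensorProduct.map_ker fR (AlgHom.id R₁ C₁) hf Function.surjective_id).trans ?_
    have : RingHom.ker (AlgHom.id R₁ C₁) = ⊥ :=
      (RingHom.injective_iff_ker_eq_bot _).1 Function.injective_id
    rw [this, Ideal.map_bot, sup_bot_eq]
    rfl
  refine .of_surjective hf ?_
  set I := RingHom.ker f.toRingHom
  have hker' : RingHom.ker π = I.map (algebraMap P Q) := hker
  algebraize [(algebraMap P Q).comp (algebraMap A P)]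
  have : Algebra.FinitePresentation A Q := Algebra.FinitePresentation.trans A P Q
  let π' : Q →ₐ[A] C :=
    { π.toRingHom with
      commutes' := fun r ↦ by
        simp only [IsScalarTower.algebraMap_apply A B C]
        rw [← f.commutes]
        exact π.commutes (algebraMap A P r) }
  have hfg : (I.map (algebraMap P Q)).FG := by
    rw [← hker']
    exact Algebra.FinitePresentation.ker_fG_of_surjective π' hπ
  -- the open image of `Spec Q` contains `V(I)`
  have : Algebra.HasGoingDown P Q := inferInstance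
  have hopen : IsOpen (Set.range (PrimeSpectrum.comap (algebraMap P Q))) :=
    (PrimeSpectrum.isOpenMap_comap_of_hasGoingDown_of_finitePresentation (R := P) (S := Q)).isOpen_range
  obtain ⟨K, hK⟩ := (PrimeSpectrum.isClosed_iff_zeroLocus_ideal _).mp hopen.isClosed_compl
  have hIU : PrimeSpectrum.zeroLocus (I : Set P) ⊆
      Set.range (PrimeSpectrum.comap (algebraMap P Q)) := by
    intro p hp
    obtain ⟨b, rfl⟩ : p ∈ Set.range (PrimeSpectrum.comap (algebraMap P B)) := by
      rwa [range_comap_of_surjective _ (algebraMap P B) hf]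
    obtain ⟨c, rfl⟩ := PrimeSpectrum.comap_surjective_of_faithfullyFlat (A := B) (B := C) b
    refine ⟨PrimeSpectrum.comap π.toRingHom c, ?_⟩
    ext x
    simp [RingHom.algebraMap_toAlgebra]
  have hIK : I ⊔ K = ⊤ := by
    rw [← PrimeSpectrum.zeroLocus_empty_iff_eq_top, PrimeSpectrum.zeroLocus_sup, ← hK]
    exact Set.eq_empty_of_forall_notMem fun p hp ↦ hp.2 (hIU hp.1)
  obtain ⟨i, hi, k, hk, hik⟩ := Submodule.mem_sup.mp ((Ideal.eq_top_iff_one _).mp hIK)
  obtain ⟨s, hsI, hs⟩ :=
    (Submodule.fg_span_iff_fg_span_finset_subset (R := Q) ((algebraMap P Q) '' I)).mp hfg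
  obtain ⟨t, htI, rfl⟩ := Finset.subset_set_image_iff.mp hsI
  let J : Ideal P := Ideal.span (insert i (t : Set P))
  have hJI : J ≤ I := Ideal.span_le.mpr (Set.insert_subset hi htI)
  suffices I ≤ J by
    rw [le_antisymm this hJI]
    exact Submodule.fg_span ((Finset.finite_toSet t).insert i)
  have hJQ : J.map (algebraMap P Q) = I.map (algebraMap P Q) := by
    refine le_antisymm (Ideal.map_mono hJI) ?_
    calc I.map (algebraMap P Q) = Ideal.span ((algebraMap P Q) '' I) := rfl
      _ = Ideal.span ((t.image (algebraMap P Q) : Finset Q) : Set Q) := hs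
      _ ≤ _ := by
        rw [Finset.coe_image, Ideal.span_le]
        rintro _ ⟨x, hx, rfl⟩
        exact Ideal.mem_map_of_mem _ (Ideal.subset_span (Set.mem_insert_of_mem _ hx))
  let L := Localization.Away i
  have : Module.Flat P (Q × L) := by
    refine Module.Flat.iff_lTensor_preserves_injective_linearMap.mpr fun N N' _ _ _ _ g hg ↦ ?_
    have h1 : Function.Injective (g.lTensor Q) := Module.Flat.lTensor_preserves_injective_linearMap g hg
    have h2 : Function.Injective (g.lTensor L) := Module.Flat.lTensor_preserves_injective_linearMap g hg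
    have key : ∀ x, TensorProduct.prodLeft P P Q L N' (g.lTensor (Q × L) x) =
        Prod.map (g.lTensor Q) (g.lTensor L) (TensorProduct.prodLeft P P Q L N x) := by
      intro x
      induction x with
      | zero => simp [Prod.map, Prod.mk_zero_zero]
      | add x y hx hy => simp [map_add, hx, hy, Prod.map]
      | tmul a m =>
        obtain ⟨a₁, a₂⟩ := a
        simp [Prod.map]
    exact fun x y h ↦ (TensorProduct.prodLeft P P Q L N).injective
      ((h1.prodMap h2) (by rw [← key, ← key, h]))
  have : Module.FaithfullyFlat P (Q × L) := by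
    refine .of_comap_surjective fun p ↦ ?_
    by_cases hp : p ∈ Set.range (PrimeSpectrum.comap (algebraMap P Q))
    · obtain ⟨q, rfl⟩ := hp
      exact ⟨PrimeSpectrum.comap (RingHom.fst Q L) q, by ext x; simp⟩
    · have hip : i ∉ p.asIdeal := by
        intro hip
        have hkp : k ∈ p.asIdeal :=
          (show p ∈ PrimeSpectrum.zeroLocus (K : Set P) by rw [← hK]; exact hp) hk
        exact p.2.ne_top ((Ideal.eq_top_iff_one _).mpr (hik ▸ add_mem hip hkp))
      obtain ⟨q, rfl⟩ : p ∈ Set.range (PrimeSpectrum.comap (algebraMap P L)) := by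
        rw [PrimeSpectrum.localization_away_comap_range L i]
        exact hip
      exact ⟨PrimeSpectrum.comap (RingHom.snd Q L) q, by ext x; simp⟩
  intro x hx
  rw [← Ideal.comap_map_eq_self_of_faithfullyFlat (B := Q × L) J, Ideal.mem_comap]
  set J' := J.map (algebraMap P (Q × L))
  have h2 : ∀ y : L, ((0 : Q), y) ∈ J' := by
    intro y
    have := J'.mul_mem_left ((0 : Q), y * IsLocalization.Away.invSelf i)
      (Ideal.mem_map_of_mem (algebraMap P (Q × L))
        (Ideal.subset_span (Set.mem_insert i _) : i ∈ J))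
    convert! this using 1
    ext
    · simp
    · simp only [Prod.algebraMap_apply, Prod.snd_mul]
      rw [mul_assoc, mul_comm (IsLocalization.Away.invSelf i), IsLocalization.Away.mul_invSelf,
        mul_one]
  have h1 : ∀ a ∈ J.map (algebraMap P Q), (a, (0 : L)) ∈ J' := by
    intro a ha
    refine Submodule.span_induction (fun y hy ↦ ?_) (zero_mem J') ?_ ?_ ha
    · obtain ⟨p, hp, rfl⟩ := hy
      have := J'.mul_mem_left ((1 : Q), (0 : L)) (Ideal.mem_map_of_mem _ hp)
      convert! this using 1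
      simp
    · intro y z _ _ hy hz
      convert! add_mem hy hz using 1
      simp
    · intro q y _ hy
      convert! J'.mul_mem_left (q, (0 : L)) hy using 1
      simp
  convert! add_mem (h1 (algebraMap P Q x) (hJQ ▸ Ideal.mem_map_of_mem _ hx))
    (h2 (algebraMap P L x)) using 1
  simp



theorem finitePresentation_of_comp [Module.FaithfullyFlat B C] [Algebra.FinitePresentation B C]
    [Algebra.FinitePresentation A C] : Algebra.FinitePresentation A B :=
  have : Algebra.FiniteType A B := finiteType_of_comp A B C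
  finitePresentation_of_comp_of_finiteType A B C

end Groth.Agent.H14.FppfDesc.Ring
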